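import Groth.Agent.L26.AV.FormalRigidity
import Groth.Agent.L26.AV.GroupSep
import Groth.Agent.L25.Component
import Groth.Agent.L25.Actions
import Groth.Agent.L25.Translate
import Mathlib.AlgebraicGeometry.Sites.Fpqc
import Mathlib.AlgebraicGeometry.Geometrically.Irreducible
import Mathlib.AlgebraicGeometry.SpreadingOut

/-!
# Rigidity of anti-affine groups near a rational point, and centrality
-/

set_option autoImplicit false
set_option backward.isDefEq.respectTransparency.types false
set_option linter.style.haveILetI false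

universe u

open CategoryTheory CategoryTheory.Limits MonoidalCategory CartesianMonoidalCategory MonObj AlgebraicGeometry

noncomputable section

namespace Groth.L08.Centre

variable {k : Type u} [Field k]

theorem exists_open_eq {H Y Z : Over (Spec (CommRingCat.of k))} [CompactSpace H.left] [QuasiSeparatedSpace H.left]
    [LocallyOfFiniteType Y.hom] [IsSeparated Z.hom] (hH : Function.Surjective H.hom.appTop.hom)
    (h₀ : 𝟙_ (Over (Spec (CommRingCat.of k))) ⟶ H) (y₀ : 𝟙_ (Over (Spec (CommRingCat.of k))) ⟶ Y)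
    (z₀ : 𝟙_ (Over (Spec (CommRingCat.of k))) ⟶ Z) (d : H ⊗ Y ⟶ Z)
    (h1 : lift (toUnit Y ≫ h₀) (𝟙 Y) ≫ d = toUnit Y ≫ z₀)
    (h2 : lift (𝟙 H) (toUnit H ≫ y₀) ≫ d = toUnit H ≫ z₀) :
    ∃ V : Y.left.Opens, y₀.left (IsLocalRing.closedPoint k) ∈ V ∧
      (H ◁ (Over.homMk V.ι rfl : Over.mk (V.ι ≫ Y.hom) ⟶ Y)) ≫ d = toUnit _ ≫ z₀ := by
  let pt : ↥(Spec (CommRingCat.of k)) := IsLocalRing.closedPoint k
  haveI : IsLocallyNoetherian Y.left := LocallyOfFiniteType.isLocallyNoetherian Y.hom
  let e : Y.left := y₀.left pt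
  obtain ⟨V, heV, hV, hinj⟩ := Y.left.exists_germ_injective e
  refine ⟨V, heV, ?_⟩
  let A := Y.left.presheaf.stalk e
  let φ : CommRingCat.of k ⟶ A := Spec.preimage (Y.left.fromSpecStalk e ≫ Y.hom)
  have hφ : Spec.map φ = Y.left.fromSpecStalk e ≫ Y.hom := Spec.map_preimage _
  let mA : pullback H.hom (Spec.map φ) ⟶ (H ⊗ Y).left :=
    pullback.lift (pullback.fst _ _) (pullback.snd _ _ ≫ Y.left.fromSpecStalk e)
      (by rw [Category.assoc, ← hφ, pullback.condition])
  let c : H ⊗ Y ⟶ Z := toUnit _ ≫ z₀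
  have hP : ∀ p : (H ⊗ Y).left, (snd H Y).left p = e → d.left p = z₀.left pt := by
    intro p hp
    let j : H ⟶ H ⊗ Y := lift (𝟙 H) (toUnit H ≫ y₀)
    have hsq : IsPullback j.left H.hom (snd H Y).left y₀.left := by
      refine IsPullback.of_right (h₁₂ := (fst H Y).left) ?_ ?_ (IsPullback.of_hasPullback H.hom Y.hom)
      · rw [← Over.comp_left, lift_fst, Over.w y₀, Over.id_left]
        exact IsPullback.of_id_fst
      · rw [← Over.comp_left, lift_snd, Over.comp_left, Over.toUnit_left]
    obtain ⟨z, hz, hz'⟩ := Scheme.Pullback.exists_preimage_pullback p pt hp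
    have hx : j.left (hsq.isoPullback.inv z) = p := by
      rw [← hz]
      exact congrArg (fun φ => φ z) hsq.isoPullback_inv_fst
    rw [← hx]
    show (j ≫ d).left _ = _
    rw [h2]
    show z₀.left (H.hom (hsq.isoPullback.inv z)) = z₀.left pt
    exact congrArg z₀.left (@Subsingleton.elim (PrimeSpectrum k) _ _ _)
  have hA : mA ≫ d.left = mA ≫ c.left := by
    refine Groth.Agent.AV.eq_of_collapse' (A := A) H.hom hH h₀.left (Over.w h₀) φ _ _ Z.hom
      (by simp only [Category.assoc, Over.w d, Over.w c]) ?_ (z₀.left pt) (fun p hp => ?_) (fun p hp => ?_)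
    · let σ := pullback.lift (f := H.hom) (g := Spec.map φ) (Spec.map φ ≫ h₀.left) (𝟙 _)
        (by rw [Category.assoc]; erw [Over.w h₀, Category.comp_id]; try simp)
      let j : Y ⟶ H ⊗ Y := lift (toUnit Y ≫ h₀) (𝟙 Y)
      have hσ : σ ≫ mA = Y.left.fromSpecStalk e ≫ j.left := by
        apply pullback.hom_ext
        · show (σ ≫ mA) ≫ pullback.fst H.hom Y.hom = (_ ≫ _) ≫ (fst H Y).left
          rw [Category.assoc, pullback.lift_fst, pullback.lift_fst, Category.assoc, ← Over.comp_left, lift_fst,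
            Over.comp_left, Over.toUnit_left, hφ, Category.assoc]
        · show (σ ≫ mA) ≫ pullback.snd H.hom Y.hom = (_ ≫ _) ≫ (snd H Y).left
          rw [Category.assoc, pullback.lift_snd, pullback.lift_snd_assoc, Category.id_comp, Category.assoc,
            ← Over.comp_left, lift_snd, Over.id_left, Category.comp_id]
      show σ ≫ mA ≫ d.left = σ ≫ mA ≫ c.left
      rw [reassoc_of% hσ, reassoc_of% hσ, ← Over.comp_left, ← Over.comp_left]
      have : j ≫ d = j ≫ c := by
        rw [h1]
        simp only [c, ← Category.assoc, comp_toUnit]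
      rw [this]
    · refine hP _ ?_
      show (mA ≫ pullback.snd H.hom Y.hom) p = e
      rw [pullback.lift_snd, Scheme.Hom.comp_apply, hp]
      exact Scheme.fromSpecStalk_closedPoint
    · show z₀.left ((H ⊗ Y).hom (mA p)) = z₀.left pt
      exact congrArg z₀.left (@Subsingleton.elim (PrimeSpectrum k) _ _ _)
  let φV : CommRingCat.of k ⟶ Γ(Y.left, V) := Spec.preimage (hV.fromSpec ≫ Y.hom)
  have hφV : Spec.map φV = hV.fromSpec ≫ Y.hom := Spec.map_preimage _
  let gV : Γ(Y.left, V) ⟶ A := Y.left.presheaf.germ V e heV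
  let mV : pullback H.hom (Spec.map φV) ⟶ (H ⊗ Y).left :=
    pullback.map _ _ _ _ (𝟙 _) hV.fromSpec (𝟙 _) (by simp) (by simp [hφV])
  have hVeq : mV ≫ d.left = mV ≫ c.left := by
    refine Groth.Agent.AV.eq_of_injective_extension' (R := Γ(Y.left, V)) (K := A) H.hom φV gV hinj _ _ Z.hom
      (by simp only [Category.assoc, Over.w d, Over.w c]) fun {T} u v w => ?_
    have hK : Spec.map gV ≫ hV.fromSpec = Y.left.fromSpecStalk e := by
      rw [← IsAffineOpen.fromSpecStalk_eq_fromSpecStalk hV heV]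
      rfl
    let l : T ⟶ pullback H.hom (Spec.map φ) := pullback.lift u v
        (by rw [hφ, ← reassoc_of% hK, w, Category.assoc, hφV])
    have hl : pullback.lift u (v ≫ Spec.map gV) w ≫ mV = l ≫ mA := by
      apply pullback.hom_ext
      · rw [Category.assoc, pullback.lift_fst, Category.comp_id, pullback.lift_fst, Category.assoc]
        erw [pullback.lift_fst, pullback.lift_fst]
      · rw [Category.assoc, pullback.lift_snd, pullback.lift_snd_assoc, Category.assoc, Category.assoc, hK]
        erw [pullback.lift_snd, pullback.lift_snd_assoc]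
    have h1 := congrArg (· ≫ d.left) hl
    have h2 := congrArg (· ≫ c.left) hl
    simp only [Category.assoc] at h1 h2
    exact h1.trans ((congrArg (l ≫ ·) hA).trans h2.symm)
  let U : Over (Spec (CommRingCat.of k)) := Over.mk (V.ι ≫ Y.hom)
  let i : U ⟶ Y := Over.homMk V.ι rfl
  let θ : (H ⊗ U).left ⟶ pullback H.hom (Spec.map φV) :=
    pullback.map H.hom (V.ι ≫ Y.hom) H.hom (Spec.map φV) (𝟙 _) hV.isoSpec.hom (𝟙 _) (by simp)
      (by rw [hφV, Category.comp_id, IsAffineOpen.isoSpec_hom_fromSpec_assoc])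
  have hθ : θ ≫ mV = (H ◁ i).left := by
    apply pullback.hom_ext
    · show (θ ≫ mV) ≫ pullback.fst H.hom Y.hom = (H ◁ i).left ≫ (fst H Y).left
      rw [← Over.comp_left, whiskerLeft_fst, Category.assoc, pullback.lift_fst, Category.comp_id]
      erw [pullback.lift_fst, Category.comp_id]
      rfl
    · show (θ ≫ mV) ≫ pullback.snd H.hom Y.hom = (H ◁ i).left ≫ (snd H Y).left
      rw [← Over.comp_left, whiskerLeft_snd, Category.assoc, pullback.lift_snd]
      erw [pullback.lift_snd_assoc]
      rw [Category.assoc, IsAffineOpen.isoSpec_hom_fromSpec]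
      rfl
  have : (H ◁ i) ≫ d = (H ◁ i) ≫ c := by
    ext1
    rw [Over.comp_left, Over.comp_left, ← hθ, Category.assoc, Category.assoc, hVeq]
  refine this.trans ?_
  simp only [c, ← Category.assoc, comp_toUnit]
  rfl

theorem shear_props (G : Over (Spec (CommRingCat.of k))) [GrpObj G] :
    IsIso (lift (fst G G) μ[G]) ∧ lift (fst G G) ((fst G G)⁻¹ * snd G G) ≫ μ[G] = snd G G := by
  refine ⟨⟨lift (fst G G) ((fst G G)⁻¹ * snd G G), ?_, ?_⟩, by rw [← Hom.mul_def, mul_inv_cancel_left]⟩
  · apply CartesianMonoidalCategory.hom_ext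
    · simp
    · rw [Category.assoc, lift_snd, MonObj.comp_mul, GrpObj.comp_inv, lift_fst, lift_snd, Category.id_comp]
      have : μ[G] = fst G G * snd G G := by rw [Hom.mul_def, lift_fst_snd, Category.id_comp]
      rw [this, inv_mul_cancel_left]
  · apply CartesianMonoidalCategory.hom_ext
    · simp
    · rw [Category.assoc, lift_snd, ← Hom.mul_def, mul_inv_cancel_left, Category.id_comp]

/-- In a connected group, the product of an open neighbourhood with itself is everything. -/
theorem surjective_mul_open (G : Over (Spec (CommRingCat.of k))) [GrpObj G] [LocallyOfFiniteType G.hom]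
    [ConnectedSpace G.left] (V : G.left.Opens) (hV : (V : Set G.left).Nonempty) :
    Surjective (lift (fst (Over.mk (V.ι ≫ G.hom)) (Over.mk (V.ι ≫ G.hom)) ≫ Over.homMk V.ι rfl)
      (snd (Over.mk (V.ι ≫ G.hom)) (Over.mk (V.ι ≫ G.hom)) ≫ Over.homMk V.ι rfl) ≫ μ[G]).left ∧
    Flat (lift (fst (Over.mk (V.ι ≫ G.hom)) (Over.mk (V.ι ≫ G.hom)) ≫ Over.homMk V.ι rfl)
      (snd (Over.mk (V.ι ≫ G.hom)) (Over.mk (V.ι ≫ G.hom)) ≫ Over.homMk V.ι rfl) ≫ μ[G]).left ∧
    LocallyOfFinitePresentation (lift (fst (Over.mk (V.ι ≫ G.hom)) (Over.mk (V.ι ≫ G.hom)) ≫ Over.homMk V.ι rfl)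
      (snd (Over.mk (V.ι ≫ G.hom)) (Over.mk (V.ι ≫ G.hom)) ≫ Over.homMk V.ι rfl) ≫ μ[G]).left := by
  haveI : IsLocallyNoetherian G.left := LocallyOfFiniteType.isLocallyNoetherian G.hom
  haveI : IrreducibleSpace G.left := Groth.L25.Component.irreducibleSpace G
  haveI : GeometricallyIrreducible G.hom := Groth.L25.Component.geometricallyIrreducible G
  let U : Over (Spec (CommRingCat.of k)) := Over.mk (V.ι ≫ G.hom)
  let i : U ⟶ G := Over.homMk V.ι rfl
  let j := lift (fst U U ≫ i) (snd U U ≫ i)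
  obtain ⟨hsh, hsh'⟩ := shear_props G
  haveI := hsh
  have hirr : ∀ z : G.left, IsPreirreducible (μ[G].left ⁻¹' {z}) := by
    intro z
    let sh' : G ⊗ G ⟶ G ⊗ G := lift (fst G G) ((fst G G)⁻¹ * snd G G)
    haveI : IrreducibleSpace ↥((snd G G).left.fiber z) := by
      haveI : GeometricallyIrreducible (snd G G).left :=
        inferInstanceAs (GeometricallyIrreducible (pullback.snd G.hom G.hom))
      exact GeometricallyIrreducible.geometrically_irreducibleSpace _ _ _ (IsPullback.of_hasPullback _ _)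
    have hid : lift (fst G G) μ[G] ≫ sh' = 𝟙 _ := by
      apply CartesianMonoidalCategory.hom_ext
      · simp [sh']
      · rw [Category.assoc, lift_snd, MonObj.comp_mul, GrpObj.comp_inv, lift_fst, lift_snd, Category.id_comp]
        have : μ[G] = fst G G * snd G G := by rw [Hom.mul_def, lift_fst_snd, Category.id_comp]
        rw [this, inv_mul_cancel_left]
    have heq : μ[G].left ⁻¹' {z} = sh'.left '' ((snd G G).left ⁻¹' {z}) := by
      ext p
      constructor
      · intro hp
        refine ⟨(lift (fst G G) μ[G]).left p, ?_, congrArg (fun φ => φ.left p) hid⟩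
        show (lift (fst G G) μ[G] ≫ snd G G).left p = z
        rw [lift_snd]
        exact hp
      · rintro ⟨q, hq, rfl⟩
        show (sh' ≫ μ[G]).left q = z
        rw [hsh']
        exact hq
    rw [heq, ← (snd G G).left.range_fiberι z, ← Set.range_comp, ← Set.image_univ]
    exact (PreirreducibleSpace.isPreirreducible_univ).image _
      (sh'.left.continuous.comp ((snd G G).left.fiberι z).continuous).continuousOn
  have hopen : IsOpenImmersion j.left ∧ Set.range j.left =
      (fst G G).left ⁻¹' (V : Set G.left) ∩ (snd G G).left ⁻¹' (V : Set G.left) := by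
    have e : j = i ⊗ₘ i := CartesianMonoidalCategory.hom_ext _ _ (by simp [j]) (by simp [j])
    rw [e]
    refine ⟨?_, ?_⟩
    · rw [tensorHom_def, Over.comp_left]
      haveI : IsOpenImmersion (i ▷ U).left := Groth.L25.Actions.of_whiskerRight @IsOpenImmersion i U (inferInstanceAs (IsOpenImmersion V.ι))
      haveI : IsOpenImmersion (G ◁ i).left := Groth.L25.Actions.of_whiskerLeft @IsOpenImmersion G i (inferInstanceAs (IsOpenImmersion V.ι))
      infer_instance
    · rw [Groth.L25.Translate.range_tensorHom, show Set.range i.left = (V : Set G.left) from V.range_ι]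
  obtain ⟨hjo, hjr⟩ := hopen
  haveI := hjo
  refine ⟨⟨fun z => ?_⟩, ?_, ?_⟩
  · obtain ⟨v, hv⟩ := hV
    let S := μ[G].left ⁻¹' {z}
    have hne1 : (S ∩ (fst G G).left ⁻¹' (V : Set G.left)).Nonempty := by
      let sh : G ⊗ G ⟶ G ⊗ G := lift (fst G G) ((fst G G)⁻¹ * snd G G)
      obtain ⟨p, hp1, hp2⟩ := Scheme.Pullback.exists_preimage_pullback (f := G.hom) (g := G.hom) v z
        (@Subsingleton.elim (PrimeSpectrum k) _ _ _)
      refine ⟨sh.left p, ?_, ?_⟩
      · show (sh ≫ μ[G]).left p = z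
        rw [hsh']
        exact hp2
      · show (sh ≫ fst G G).left p ∈ V
        rw [lift_fst]
        exact hp1.symm ▸ hv
    have hne2 : (S ∩ (snd G G).left ⁻¹' (V : Set G.left)).Nonempty := by
      let sh : G ⊗ G ⟶ G ⊗ G := lift (fst G G * (snd G G)⁻¹) (snd G G)
      obtain ⟨p, hp1, hp2⟩ := Scheme.Pullback.exists_preimage_pullback (f := G.hom) (g := G.hom) z v
        (@Subsingleton.elim (PrimeSpectrum k) _ _ _)
      refine ⟨sh.left p, ?_, ?_⟩
      · show (sh ≫ μ[G]).left p = z
        rw [← Hom.mul_def, inv_mul_cancel_right]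
        exact hp1
      · show (sh ≫ snd G G).left p ∈ V
        rw [lift_snd]
        exact hp2.symm ▸ hv
    obtain ⟨q, hqS, hq⟩ := hirr z _ _ (V.2.preimage (fst G G).left.continuous)
      (V.2.preimage (snd G G).left.continuous) hne1 hne2
    obtain ⟨r, rfl⟩ := hjr.symm.subset hq
    exact ⟨r, hqS⟩
  · show Flat (j.left ≫ μ[G].left)
    have hμ : μ[G].left = (lift (fst G G) μ[G]).left ≫ pullback.snd G.hom G.hom := by
      show _ = _ ≫ (snd G G).left
      rw [← Over.comp_left, lift_snd]
    haveI : IsIso (lift (fst G G) μ[G]).left :=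
      inferInstanceAs (IsIso ((Over.forget _).map (lift (fst G G) μ[G])))
    rw [hμ]
    infer_instance
  · haveI : LocallyOfFiniteType ((j ≫ μ[G]).left ≫ G.hom) := by
      rw [Over.w (j ≫ μ[G])]
      haveI : LocallyOfFiniteType U.hom := inferInstanceAs (LocallyOfFiniteType (V.ι ≫ G.hom))
      exact inferInstanceAs (LocallyOfFiniteType (pullback.fst U.hom U.hom ≫ U.hom))
    haveI : LocallyOfFiniteType (j ≫ μ[G]).left := locallyOfFiniteType_of_comp _ G.hom
    exact LocallyOfFinitePresentation.iff_locallyOfFiniteType.2 ‹_›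

/-- Anti-affine groups map centrally to connected groups. -/
theorem central {H G : Over (Spec (CommRingCat.of k))} [GrpObj H] [GrpObj G] [LocallyOfFiniteType H.hom]
    [QuasiCompact H.hom] [LocallyOfFiniteType G.hom] [ConnectedSpace G.left]
    (hH : Function.Surjective H.hom.appTop.hom) (φ : H ⟶ G) [IsMonHom φ] :
    (fst H G ≫ φ) * snd H G = snd H G * (fst H G ≫ φ) := by
  haveI : IsSeparated G.hom := Groth.Agent.AV.isSeparated_of_grpObj G
  haveI : CompactSpace H.left := (quasiCompact_iff_compactSpace H.hom).mp inferInstance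
  haveI : IsSeparated H.hom := Groth.Agent.AV.isSeparated_of_grpObj H
  haveI : QuasiSeparatedSpace H.left := quasiSeparatedSpace_of_quasiSeparated H.hom
  let d : H ⊗ G ⟶ G := (fst H G ≫ φ) * snd H G * ((snd H G) * (fst H G ≫ φ))⁻¹
  have hd : ∀ {T : Over (Spec (CommRingCat.of k))} (a : T ⟶ H) (b : T ⟶ G),
      lift a b ≫ d = (a ≫ φ) * b * (b * (a ≫ φ))⁻¹ := fun a b => by
    simp only [d, MonObj.comp_mul, GrpObj.comp_inv, lift_fst_assoc, lift_snd]
  obtain ⟨V, hVe, hV⟩ := exists_open_eq hH η[H] η[G] η[G] d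
    (by rw [hd, ← Hom.one_def, MonObj.one_comp, _root_.one_mul, _root_.mul_one, mul_inv_cancel, Hom.one_def])
    (by rw [hd, ← Hom.one_def, _root_.one_mul, _root_.mul_one, mul_inv_cancel])
  let U : Over (Spec (CommRingCat.of k)) := Over.mk (V.ι ≫ G.hom)
  let i : U ⟶ G := Over.homMk V.ι rfl
  have hcomm : ∀ {T : Over (Spec (CommRingCat.of k))} (a : T ⟶ H) (b : T ⟶ U),
      (a ≫ φ) * (b ≫ i) = (b ≫ i) * (a ≫ φ) := by
    intro T a b
    have := congrArg (lift a b ≫ ·) hV
    simp only [← Hom.one_def, MonObj.comp_one, lift_whiskerLeft_assoc] at this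
    rw [hd, mul_inv_eq_one] at this
    exact this
  obtain ⟨_, _, _⟩ := surjective_mul_open G V ⟨_, hVe⟩
  let m := lift (fst U U ≫ i) (snd U U ≫ i) ≫ μ[G]
  haveI : Surjective (H ◁ m).left := Groth.L25.Actions.of_whiskerLeft @Surjective H m ‹_›
  haveI : Flat (H ◁ m).left := Groth.L25.Actions.of_whiskerLeft @Flat H m ‹_›
  haveI : LocallyOfFinitePresentation (H ◁ m).left :=
    Groth.L25.Actions.of_whiskerLeft @LocallyOfFinitePresentation H m ‹_›
  haveI : Epi (H ◁ m).left := inferInstance
  haveI : Epi (H ◁ m) := (Over.forget _).epi_of_epi_map (inferInstanceAs (Epi (H ◁ m).left))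
  rw [← cancel_epi (H ◁ m)]
  simp only [MonObj.comp_mul, whiskerLeft_fst_assoc, whiskerLeft_snd]
  rw [show m = (fst U U ≫ i) * (snd U U ≫ i) from (Hom.mul_def _ _).symm, MonObj.comp_mul]
  simp only [← Category.assoc (snd H (U ⊗ U))]
  rw [← _root_.mul_assoc, hcomm, _root_.mul_assoc, hcomm, _root_.mul_assoc]

end Groth.L08.Centre
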