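import Groth.Agent.L08.Centre.Rigid
import Groth.Agent.L08.FactorLocus
import Groth.Agent.L08.AffHull.Crit
import Groth.Prelude.Def_Red2

/-!
# The centre of a group over a field and the affineness of the quotient by it
-/

set_option autoImplicit false
set_option backward.isDefEq.respectTransparency.types false
set_option linter.style.haveILetI false

universe u

open CategoryTheory CategoryTheory.Limits MonoidalCategory CartesianMonoidalCategory MonObj AlgebraicGeometry

noncomputable section

namespace Groth.L08.Centre

variable {k : Type u} [Field k]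

/-- The centre of a group over a field is a closed subgroup. -/
theorem exists_centre (G : Over (Spec (CommRingCat.of k))) [GrpObj G] :
    ∃ (Z : Over (Spec (CommRingCat.of k))) (_ : GrpObj Z) (i : Z ⟶ G), IsMonHom i ∧ IsClosedImmersion i.left ∧
      Red.IsCentre i := by
  haveI : IsSeparated G.hom := AbelianGrp.isSeparated G
  obtain ⟨Z, t, ht, hZ⟩ := FactorLocus.exists_closedImmersion_agree (fst G G * snd G G) (snd G G * fst G G)
  haveI : Mono t := Over.mono_of_mono_left t
  have crit : ∀ (X : Over (Spec (CommRingCat.of k))) (g : X ⟶ G), (∃ z : X ⟶ Z, z ≫ t = g) ↔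
      ∀ (X' : Over (Spec (CommRingCat.of k))) (x : X' ⟶ X) (h : X' ⟶ G), (x ≫ g) * h = h * (x ≫ g) := by
    intro X g
    rw [hZ X g]
    simp only [MonObj.comp_mul, whiskerLeft_fst, whiskerLeft_snd]
    constructor
    · intro e X' x h
      have := congrArg (CartesianMonoidalCategory.lift h x ≫ ·) e
      simp only [MonObj.comp_mul, lift_fst, lift_snd_assoc] at this
      exact this.symm
    · intro h
      exact (h (G ⊗ X) (snd G X) (fst G X)).symm
  have hc : ∀ (X' : Over (Spec (CommRingCat.of k))) (a : X' ⟶ Z) (h : X' ⟶ G),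
      (a ≫ t) * h = h * (a ≫ t) := fun X' a h => by
    have := (crit X' (a ≫ t)).1 ⟨a, rfl⟩ X' (𝟙 _) h
    rwa [Category.id_comp] at this
  obtain ⟨gZ, hi⟩ := Groth.L08.exists_grpObj_of_mono t
    ((crit _ η[G]).2 fun X' x h => by
      rw [toUnit_unique x (toUnit X'), ← Hom.one_def, _root_.one_mul, _root_.mul_one])
    ((crit _ _).2 fun X' x h => by
      have h1 := hc X' (x ≫ fst Z Z) h
      have h2 := hc X' (x ≫ snd Z Z) h
      simp only [Category.assoc] at h1 h2
      simp only [MonObj.comp_mul]
      rw [_root_.mul_assoc, h2, ← _root_.mul_assoc, h1, _root_.mul_assoc])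
    ((crit _ _).2 fun X' x h => by
      have h1 := hc X' x h
      rw [GrpObj.comp_inv]
      exact (Commute.inv_left h1).eq)
  refine ⟨Z, gZ, t, hi, ht, hi, inferInstance, fun X g => ?_⟩
  simpa only [Category.comp_id] using crit X g

/-- The quotient of a connected group by its centre is affine. -/
theorem isAffine_quotient {G Z Q : Over (Spec (CommRingCat.of k))} [GrpObj G] [GrpObj Z] [LocallyOfFiniteType G.hom]
    [QuasiCompact G.hom] [ConnectedSpace G.left] (j : Z ⟶ G) (hZ : Red.IsCentre j) [GrpObj Q]
    [LocallyOfFiniteType Q.hom] [QuasiCompact Q.hom] (q : G ⟶ Q) [IsMonHom q] [Surjective q.left]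
    (hker : AlgGrp.IsKernel j q) : IsAffine Q.left := by
  haveI := AffHull.compactSpace (G := G)
  haveI := AffHull.quasiSeparatedSpace (G := G)
  obtain ⟨hl, _, _, _⟩ := AffHull.hull_props (G := G)
  obtain ⟨K, gK, i, _, _, -, sq⟩ := AbelianGrp.exists_kernel (AffHull.rho G)
  haveI : LocallyOfFiniteType K.hom := by rw [← Over.w i]; infer_instance
  haveI : QuasiCompact K.hom := by rw [← Over.w i]; infer_instance
  have hO : IsIso K.hom.appTop := AffHull.isIso_appTop_kernel i sq
  haveI := hO
  have hc := central (ConcreteCategory.bijective_of_isIso K.hom.appTop).2 i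
  obtain ⟨z, hz⟩ := (hZ.2.2 K i).2 fun X' x h => by
    have := congrArg (CartesianMonoidalCategory.lift x h ≫ ·) hc
    simpa only [MonObj.comp_mul, lift_fst_assoc, lift_snd, Category.comp_id] using this
  have hiq : i ≫ q = toUnit K ≫ η[Q] := by
    rw [← hz, Category.assoc, hker.w, ← Category.assoc, toUnit_unique (z ≫ toUnit Z) (toUnit K)]
  obtain ⟨φ, _, hφ, -⟩ := Groth.Agent.S3280.result k G K (AffHull.hull G) Q (AffHull.rho G) i sq q hiq
  haveI : Surjective φ.left := by
    haveI : Surjective ((AffHull.rho G).left ≫ φ.left) := by rw [← Over.comp_left, hφ]; infer_instance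
    exact Surjective.of_comp (AffHull.rho G).left φ.left
  exact NormalQuot.isAffine_of_surjective_hom φ

end Groth.L08.Centre
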